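import Mathlib

/-!
# S0420 (uniqueness of the simple group of order 7920): shared definitions (helper1)

`Hyp G` bundles the landed facts on a simple group of order 7920 that the permutation-group part of the
proof uses; `Adj` is the rank 3 graph on the 55 Sylow 3-subgroups (two Sylow 3-subgroups are adjacent
when their normalizers meet in a group of order 8).  The group acts on `Sylow 3 G` by conjugation
(`Sylow.mulAction`), the stabilizer of `P` being its normalizer.
-/

set_option autoImplicit false

universe u

namespace Cfsg.Agent.Lib.H1.M11U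

variable {G : Type u} [Group G] [Finite G]

/-- the normalizer of a Sylow 3-subgroup -/
abbrev Nrm (P : Sylow 3 G) : Subgroup G := Subgroup.normalizer ((P : Subgroup G) : Set G)

/-- the landed facts about a simple group of order 7920, plus the rank 3 property -/
structure Hyp (G : Type u) [Group G] [Finite G] : Prop where
  card : Nat.card G = 7920
  cent3 : ∀ t : G, orderOf t = 3 → Nat.card (Subgroup.centralizer ({t} : Set G)) = 18
  cent2 : ∀ t : G, orderOf t = 2 → Nat.card (Subgroup.centralizer ({t} : Set G)) = 48
  norm3 : ∀ P : Sylow 3 G, Nat.card (Nrm P) = 144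
  ti3 : ∀ (P₁ P₂ : Sylow 3 G) (g : G), g ≠ 1 → g ∈ (P₁ : Subgroup G) → g ∈ (P₂ : Subgroup G) → P₁ = P₂
  rank3 : Nat.card (MulAction.orbitRel.Quotient G (Sylow 3 G × Sylow 3 G)) = 3

/-- adjacency of two Sylow 3-subgroups: their normalizers meet in a subgroup of order 8 -/
def Adj (P P' : Sylow 3 G) : Prop := Nat.card ↥(Nrm P ⊓ Nrm P') = 8

/-- the orbit of `x` under the Sylow 3-subgroup `P` -/
def orb (P x : Sylow 3 G) : Set (Sylow 3 G) := {y | ∃ u ∈ (P : Subgroup G), u • x = y}

/-- the subgroup `B = P Q`, `Q = N(P) ∩ N(P')` -/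
def Bsub (P P' : Sylow 3 G) : Subgroup G := (P : Subgroup G) ⊔ (Nrm P ⊓ Nrm P')

end Cfsg.Agent.Lib.H1.M11U
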