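import Mathlib
import Cfsg.Agent.Lib.H1.M11U.Defs
import Cfsg.Agent.S0434
import Cfsg.Agent.S0435
import Cfsg.Agent.Lib.H14.M7920STRUCT
import Cfsg.Agent.Lib.H13.M7920T3
import Cfsg.Agent.Lib.H7.M7920TI3

/-!
# S0420: the hypothesis bundle from the landed rows, and the basic API of `Adj` (helper1)
-/

set_option autoImplicit false
open scoped Pointwise

universe u

namespace Cfsg.Agent.Lib.H1.M11U

variable {G : Type u} [Group G] [Finite G]

/-- every element of order 3 of a simple group of order 7920 has a centralizer of order 18 -/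
theorem cent3_of_isM11 (hG : Cfsg.IsM11 G) (t : G) (ht : orderOf t = 3) :
    Nat.card (Subgroup.centralizer ({t} : Set G)) = 18 := by
  classical
  obtain ⟨hs, hcard⟩ := hG
  have := hs
  have : Fintype G := Fintype.ofFinite G
  obtain ⟨x, y, ψ, ψ₄, χ₁, χ₂, θ, θ', φ, hx, hCx, hCy, hall, hinj, hdist, hne1, hdeg, hvalx, hF5,
    hvaly⟩ := Cfsg.Agent.Lib.H14.M7920.structure_7920 hcard
  exact Cfsg.Agent.Lib.H13.M7920.card_centralizer_order3 hcard x y hx hCx hCy ψ ψ₄ χ₁ χ₂ θ θ' φ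
      hall hinj hdist hne1 hdeg hvalx hF5 hvaly t ht

/-- (BASE) the hypothesis bundle, given the rank 3 property -/
theorem hyp_of_isM11' (hG : Cfsg.IsM11 G)
    (hr : Nat.card (MulAction.orbitRel.Quotient G (Sylow 3 G × Sylow 3 G)) = 3) : Hyp G where
  card := hG.2
  cent3 := cent3_of_isM11 hG
  cent2 := fun t ht => Cfsg.Agent.S0435.result hG t ht
  norm3 := fun P => Cfsg.Agent.S0434.result hG P
  ti3 := fun P₁ P₂ g hg1 hg₁ hg₂ =>
    Cfsg.Agent.Lib.H7.M7920.sylow3_unique hG.2 (cent3_of_isM11 hG) P₁ P₂ hg1 hg₁ hg₂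
  rank3 := hr

/-! ### API -/

theorem smul_eq_iff (g : G) (P : Sylow 3 G) : g • P = P ↔ g ∈ Nrm P :=
  Sylow.smul_eq_iff_mem_normalizer

theorem adj_comm {P P' : Sylow 3 G} : Adj P P' ↔ Adj P' P := by
  unfold Adj
  rw [inf_comm]

theorem nrm_smul (g : G) (P : Sylow 3 G) : Nrm (g • P) = (Nrm P).map (MulAut.conj g).toMonoidHom := by
  ext x
  simp only [Nrm, Subgroup.mem_map, MulEquiv.coe_toMonoidHom, MulAut.conj_apply]
  rw [← smul_eq_iff, ]
  constructor
  · intro hx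
    refine ⟨g⁻¹ * x * g, ?_, by group⟩
    rw [← smul_eq_iff, mul_smul, mul_smul, hx, inv_smul_smul]
  · rintro ⟨y, hy, rfl⟩
    rw [← smul_eq_iff] at hy
    rw [mul_smul, mul_smul, inv_smul_smul, hy]

theorem adj_smul (g : G) {P P' : Sylow 3 G} : Adj (g • P) (g • P') ↔ Adj P P' := by
  unfold Adj
  rw [nrm_smul, nrm_smul, ← Subgroup.map_inf_eq _ _ _ (MulAut.conj g).injective]
  rw [Nat.card_congr ((Nrm P ⊓ Nrm P').equivMapOfInjective _ (MulAut.conj g).injective).symm.toEquiv]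

theorem adj_irrefl (h : Hyp G) (P : Sylow 3 G) : ¬ Adj P P := by
  unfold Adj
  rw [inf_idem, h.norm3 P]
  norm_num

theorem card_sylow3_sub (h : Hyp G) (P : Sylow 3 G) : Nat.card (P : Subgroup G) = 9 :=
  Cfsg.Agent.Lib.H7.M7920.card_sylow3 h.card P

theorem card_sylow3 (h : Hyp G) : Nat.card (Sylow 3 G) = 55 := by
  haveI : Fact (Nat.Prime 3) := ⟨by norm_num⟩
  obtain ⟨P⟩ : Nonempty (Sylow 3 G) := inferInstance
  have h1 := Sylow.card_eq_index_normalizer P
  have h2 : Nat.card (Nrm P) * (Nrm P).index = Nat.card G := Subgroup.card_mul_index (Nrm P)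
  rw [h.norm3 P, h.card] at h2
  rw [h1]
  show (Nrm P).index = 55
  omega

end Cfsg.Agent.Lib.H1.M11U
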