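import Mathlib
import Cfsg.Prelude.Def_Sporadic
import Cfsg.Agent.Lib.H1.M11U.Base
import Cfsg.Agent.Lib.H9.M11SUB
import Cfsg.Agent.Lib.H5.M11ABS
import Cfsg.Agent.Lib.H18.M11ST

/-!
# S0420: the pieces used by `local_prop`, re-exported from the landed twins (helper1)
-/

set_option autoImplicit false
open scoped Pointwise

universe u

namespace Cfsg.Agent.Lib.H1.M11U.BB

open Cfsg.Agent.Lib.H1.M11U

variable {G : Type u} [Group G] [Finite G]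

theorem semireg (h : Hyp G) {P P' : Sylow 3 G} (hne : P' ≠ P) {u : G} (hu : u ∈ (P : Subgroup G))
    (hu1 : u ≠ 1) : u • P' ≠ P' := Cfsg.Agent.Lib.H9.M11U.semireg h hne hu hu1

theorem card_inf_nrm (h : Hyp G) {P P' : Sylow 3 G} (hne : P ≠ P') :
    Nat.card ↥(Nrm P ⊓ Nrm P') = 8 ∨ Nat.card ↥(Nrm P ⊓ Nrm P') = 4 :=
  Cfsg.Agent.Lib.H9.M11U.card_inf_nrm h hne

theorem card_adj (h : Hyp G) (P : Sylow 3 G) : Nat.card {P' : Sylow 3 G // Adj P P'} = 18 :=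
  Cfsg.Agent.Lib.H9.M11U.card_adj h P

theorem nonadj_trans (h : Hyp G) {P P₁ P₂ : Sylow 3 G} (h1 : P₁ ≠ P) (h1' : ¬ Adj P P₁)
    (h2 : P₂ ≠ P) (h2' : ¬ Adj P P₂) : ∃ n ∈ Nrm P, n • P₁ = P₂ :=
  Cfsg.Agent.Lib.H9.M11U.nonadj_trans h h1 h1' h2 h2'

theorem exists_s (h : Hyp G) {P P' : Sylow 3 G} (hadj : Adj P P') :
    ∃ s : G, s ∈ Nrm P ∧ s ∉ Bsub P P' ∧
      (∀ q ∈ Nrm P ⊓ Nrm P', s * q * s⁻¹ ∈ Nrm P ⊓ Nrm P' ∧ s⁻¹ * q * s ∈ Nrm P ⊓ Nrm P') ∧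
      (∀ n ∈ Nrm P, n ∈ Bsub P P' ∨ s⁻¹ * n ∈ Bsub P P') :=
  Cfsg.Agent.Lib.H18.M11U.exists_s h hadj

theorem abs_graph {Ω : Type*} [Fintype Ω] [DecidableEq Ω] (adj : Ω → Ω → Prop) [DecidableRel adj]
    (hsymm : ∀ x y, adj x y → adj y x) (hirr : ∀ x, ¬ adj x x)
    (hcard : Fintype.card Ω = 55)
    (hdeg : ∀ x, (Finset.univ.filter (fun y => adj x y)).card = 18)
    (μ : ℕ) (hμ : ∀ x y, x ≠ y → ¬ adj x y →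
      (Finset.univ.filter (fun w => adj x w ∧ adj y w)).card = μ)
    (P : Ω) (D1 D2 : Finset Ω) (hD1 : D1.card = 9) (hD2 : D2.card = 9) (hdisj : Disjoint D1 D2)
    (hΔ : ∀ x, adj P x ↔ x ∈ D1 ∨ x ∈ D2)
    (m : Ω → Ω) (hm : ∀ x ∈ D1, m x ∈ D2) (hminj : ∀ x ∈ D1, ∀ y ∈ D1, m x = m y → x = y)
    (hmadj : ∀ x ∈ D1, adj x (m x))
    (ha : ∀ x ∈ D1, ∀ y ∈ D1, ∀ x' ∈ D1, ∀ y' ∈ D1, x ≠ y → x' ≠ y' → (adj x y ↔ adj x' y'))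
    (ha' : ∀ x ∈ D1, ∀ y ∈ D1, ∀ x' ∈ D2, ∀ y' ∈ D2, x ≠ y → x' ≠ y' → (adj x y ↔ adj x' y'))
    (hb : ∀ x ∈ D1, ∀ y ∈ D2, ∀ x' ∈ D1, ∀ y' ∈ D2, y ≠ m x → y' ≠ m x' → (adj x y ↔ adj x' y'))
    (hΓ : ∀ w w', w ≠ P → ¬ adj P w → w' ≠ P → ¬ adj P w' →
        ((D1.filter (fun x => adj w x)).card = (D1.filter (fun x => adj w' x)).card ∧
         (D2.filter (fun x => adj w x)).card = (D2.filter (fun x => adj w' x)).card) ∨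
        ((D1.filter (fun x => adj w x)).card = (D2.filter (fun x => adj w' x)).card ∧
         (D2.filter (fun x => adj w x)).card = (D1.filter (fun x => adj w' x)).card)) :
    (∀ x ∈ D1, ∀ y ∈ D1, x ≠ y → adj x y) ∧ (∀ x ∈ D1, ∀ y ∈ D2, y ≠ m x → ¬ adj x y) :=
  Cfsg.Agent.Lib.H5.M11U.abs_graph adj hsymm hirr hcard hdeg μ hμ P D1 D2 hD1 hD2 hdisj hΔ m hm hminj
    hmadj ha ha' hb hΓ

end Cfsg.Agent.Lib.H1.M11U.BB
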