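import Mathlib
import Cfsg.Agent.Lib.H1.M11U.Base
import Cfsg.Agent.Lib.H1.M11U.BB

/-!
# S0420 piece LP: the local structure of the rank 3 graph on the Sylow 3-subgroups (helper1)
-/

set_option autoImplicit false
open scoped Pointwise

universe u

namespace Cfsg.Agent.Lib.H1.M11U

variable {G : Type u} [Group G] [Finite G]

/-! ### orbits of `P` -/

theorem mem_orb {P x y : Sylow 3 G} : y ∈ orb P x ↔ ∃ u ∈ (P : Subgroup G), u • x = y := Iff.rfl

theorem self_mem_orb (P x : Sylow 3 G) : x ∈ orb P x := ⟨1, one_mem _, one_smul _ _⟩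

theorem smul_mem_orb {P x : Sylow 3 G} {u : G} (hu : u ∈ (P : Subgroup G)) : u • x ∈ orb P x :=
  ⟨u, hu, rfl⟩

theorem mem_nrm_of_mem {P : Sylow 3 G} {u : G} (hu : u ∈ (P : Subgroup G)) : u ∈ Nrm P :=
  Subgroup.le_normalizer hu

theorem smul_self_of_mem {P : Sylow 3 G} {u : G} (hu : u ∈ (P : Subgroup G)) : u • P = P :=
  (smul_eq_iff u P).2 (mem_nrm_of_mem hu)

theorem conj_mem_of_mem_nrm {P : Sylow 3 G} {n u : G} (hn : n ∈ Nrm P) (hu : u ∈ (P : Subgroup G)) :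
    n * u * n⁻¹ ∈ (P : Subgroup G) :=
  (Subgroup.mem_normalizer_iff.1 hn u).1 hu

theorem conj_mem_of_mem_nrm' {P : Sylow 3 G} {n u : G} (hn : n ∈ Nrm P) (hu : u ∈ (P : Subgroup G)) :
    n⁻¹ * u * n ∈ (P : Subgroup G) := by
  have := conj_mem_of_mem_nrm (Subgroup.inv_mem _ hn) hu
  simpa using this

theorem smul_smul_conj (n u : G) (x : Sylow 3 G) : n • (u • x) = (n * u * n⁻¹) • (n • x) := by
  rw [← mul_smul, ← mul_smul]
  congr 1
  group

/-- `n ∈ N(P)` maps `P`-orbits to `P`-orbits -/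
theorem smul_mem_orb_iff {P x y : Sylow 3 G} {n : G} (hn : n ∈ Nrm P) :
    n • y ∈ orb P (n • x) ↔ y ∈ orb P x := by
  constructor
  · rintro ⟨u, hu, hux⟩
    refine ⟨n⁻¹ * u * n, conj_mem_of_mem_nrm' hn hu, ?_⟩
    have : n • ((n⁻¹ * u * n) • x) = n • y := by
      rw [← mul_smul, ← hux, ← mul_smul]
      congr 1
      group
    exact smul_left_cancel n this
  · rintro ⟨u, hu, rfl⟩
    exact ⟨n * u * n⁻¹, conj_mem_of_mem_nrm hn hu, (smul_smul_conj n u x).symm⟩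

theorem orb_eq_of_mem {P x y : Sylow 3 G} (hy : y ∈ orb P x) : orb P y = orb P x := by
  obtain ⟨u, hu, rfl⟩ := hy
  ext z
  constructor
  · rintro ⟨v, hv, rfl⟩
    exact ⟨v * u, Subgroup.mul_mem _ hv hu, mul_smul _ _ _⟩
  · rintro ⟨v, hv, rfl⟩
    refine ⟨v * u⁻¹, Subgroup.mul_mem _ hv (Subgroup.inv_mem _ hu), ?_⟩
    rw [mul_smul, inv_smul_smul]

/-- adjacency to `P` is constant on `P`-orbits (more generally invariant under `N(P)`) -/
theorem adj_smul_of_mem_nrm {P x : Sylow 3 G} {n : G} (hn : n ∈ Nrm P) : Adj P (n • x) ↔ Adj P x := by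
  have h1 : Adj (n • P) (n • x) ↔ Adj P x := adj_smul n
  rwa [(smul_eq_iff n P).2 hn] at h1

theorem adj_of_mem_orb {P x y : Sylow 3 G} (hx : Adj P x) (hy : y ∈ orb P x) : Adj P y := by
  obtain ⟨u, hu, rfl⟩ := hy
  exact (adj_smul_of_mem_nrm (mem_nrm_of_mem hu)).2 hx


/-- `P` acts freely on the other Sylow 3-subgroups -/
theorem inj_smul (h : Hyp G) {P x : Sylow 3 G} (hne : x ≠ P) {u u' : G} (hu : u ∈ (P : Subgroup G))
    (hu' : u' ∈ (P : Subgroup G)) (he : u • x = u' • x) : u = u' := by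
  by_contra hcon
  have h1 : (u'⁻¹ * u) • x = x := by rw [mul_smul, he, inv_smul_smul]
  have h2 : u'⁻¹ * u ≠ 1 := fun h3 => hcon (inv_mul_eq_one.1 h3).symm
  exact BB.semireg h hne (Subgroup.mul_mem _ (Subgroup.inv_mem _ hu') hu) h2 h1

theorem orb_ncard (h : Hyp G) {P x : Sylow 3 G} (hne : x ≠ P) : (orb P x).ncard = 9 := by
  have h1 : orb P x = Set.range (fun u : (P : Subgroup G) => (u : G) • x) := by
    ext y
    constructor
    · rintro ⟨u, hu, rfl⟩
      exact ⟨⟨u, hu⟩, rfl⟩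
    · rintro ⟨u, rfl⟩
      exact ⟨u, u.2, rfl⟩
  have hinj : Function.Injective (fun u : (P : Subgroup G) => (u : G) • x) := by
    intro u u' he
    exact Subtype.ext (inj_smul h hne u.2 u'.2 he)
  rw [h1, ← Set.image_univ, Set.ncard_image_of_injective _ hinj, Set.ncard_univ, card_sylow3_sub h P]

theorem ne_of_mem_orb {P x y : Sylow 3 G} (hne : x ≠ P) (hy : y ∈ orb P x) : y ≠ P := by
  obtain ⟨u, hu, rfl⟩ := hy
  intro he
  apply hne
  have : u⁻¹ • (u • x) = u⁻¹ • P := by rw [he]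
  rw [inv_smul_smul, smul_self_of_mem (Subgroup.inv_mem _ hu)] at this
  exact this


/-! ### the bits -/

theorem mem_Q_smul {P P' : Sylow 3 G} {q : G} (hq : q ∈ Nrm P ⊓ Nrm P') : q • P = P ∧ q • P' = P' :=
  ⟨(smul_eq_iff q P).2 hq.1, (smul_eq_iff q P').2 hq.2⟩

/-- `Q` fixes `s • P'` when `s` normalises `Q` -/
theorem Q_fix_s {P P' : Sylow 3 G} {s : G}
    (hsQ : ∀ q ∈ Nrm P ⊓ Nrm P', s * q * s⁻¹ ∈ Nrm P ⊓ Nrm P' ∧ s⁻¹ * q * s ∈ Nrm P ⊓ Nrm P')
    {q : G} (hq : q ∈ Nrm P ⊓ Nrm P') : q • (s • P') = s • P' := by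
  have h1 := (mem_Q_smul (hsQ q hq).2).2
  have : q • (s • P') = s • ((s⁻¹ * q * s) • P') := by
    rw [← mul_smul, ← mul_smul]
    congr 1
    group
  rw [this, h1]

/-- (K1) -/
theorem adj_orb_iff {P' x : Sylow 3 G} (v w : G) :
    Adj (v • P') (w • x) ↔ Adj P' ((v⁻¹ * w) • x) := by
  have h1 : Adj (v⁻¹ • (v • P')) (v⁻¹ • (w • x)) ↔ Adj (v • P') (w • x) := adj_smul v⁻¹
  rw [inv_smul_smul, ← mul_smul] at h1
  exact h1.symm

/-- (K2)/(K3): for a point `x` fixed by `Q`, adjacency of `P'` to `u • x` does not depend on `u ∈ P#` -/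
theorem adj_const {P P' : Sylow 3 G}
    (hQt : ∀ {u u' : G}, u ∈ (P : Subgroup G) → u ≠ 1 → u' ∈ (P : Subgroup G) → u' ≠ 1 →
      ∃ q ∈ Nrm P ⊓ Nrm P', q * u * q⁻¹ = u') {x : Sylow 3 G}
    (hx : ∀ q ∈ Nrm P ⊓ Nrm P', q • x = x) {u u' : G} (hu : u ∈ (P : Subgroup G)) (hu1 : u ≠ 1)
    (hu' : u' ∈ (P : Subgroup G)) (hu'1 : u' ≠ 1) : Adj P' (u • x) ↔ Adj P' (u' • x) := by
  obtain ⟨q, hq, hqu⟩ := hQt hu hu1 hu' hu'1
  have h1 : Adj (q • P') (q • (u • x)) ↔ Adj P' (u • x) := adj_smul q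
  rw [(mem_Q_smul hq).2, smul_smul_conj, hx q hq, hqu] at h1
  exact h1.symm


/-- an element of `N(P)` either fixes or swaps the two `P`-orbits of neighbours of `P` -/
theorem nrm_orb_cases {P P' P3 : Sylow 3 G}
    (hΔ : ∀ x, Adj P x → x ∈ orb P P' ∨ x ∈ orb P P3) (hadj : Adj P P') (hadj3 : Adj P P3)
    (hP3not : P3 ∉ orb P P') {n : G} (hn : n ∈ Nrm P) :
    ((∀ x, n • x ∈ orb P P' ↔ x ∈ orb P P') ∧ (∀ x, n • x ∈ orb P P3 ↔ x ∈ orb P P3)) ∨
    ((∀ x, n • x ∈ orb P P3 ↔ x ∈ orb P P') ∧ (∀ x, n • x ∈ orb P P' ↔ x ∈ orb P P3)) := by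
  have hnot' : P' ∉ orb P P3 := by
    intro hc
    apply hP3not
    rw [orb_eq_of_mem hc]
    exact self_mem_orb P P3
  have key : ∀ {a b : Sylow 3 G}, n • a ∈ orb P b → ∀ x, n • x ∈ orb P b ↔ x ∈ orb P a := by
    intro a b hab x
    rw [← orb_eq_of_mem hab]
    exact smul_mem_orb_iff hn
  have h1 := hΔ (n • P') ((adj_smul_of_mem_nrm hn).2 hadj)
  have h3 := hΔ (n • P3) ((adj_smul_of_mem_nrm hn).2 hadj3)
  rcases h1 with h1 | h1
  · left
    refine ⟨key h1, ?_⟩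
    rcases h3 with h3 | h3
    · exfalso
      exact hP3not ((key h1 P3).1 h3)
    · exact key h3
  · right
    refine ⟨key h1, ?_⟩
    rcases h3 with h3 | h3
    · exact key h3
    · exfalso
      exact hP3not ((key h1 P3).1 h3)


/-- (LP core) the local structure at an adjacent pair, given `Q_trans` at the pair and `mu_const` -/
theorem local_prop_core (h : Hyp G) {P P' : Sylow 3 G} (hadj : Adj P P')
    (hQt : ∀ {u u' : G}, u ∈ (P : Subgroup G) → u ≠ 1 → u' ∈ (P : Subgroup G) → u' ≠ 1 →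
      ∃ q ∈ Nrm P ⊓ Nrm P', q * u * q⁻¹ = u')
    (hmu : ∃ μ : ℕ, ∀ x y : Sylow 3 G, x ≠ y → ¬ Adj x y →
      Nat.card {w : Sylow 3 G // Adj x w ∧ Adj y w} = μ) :
    (∀ u ∈ (P : Subgroup G), u ≠ 1 → Adj P' (u • P')) ∧
    (∀ y, Adj P y → y ∉ orb P P' → ∃! x, x ∈ orb P P' ∧ Adj y x) ∧
    (∀ x ∈ orb P P', ∃! y, Adj P y ∧ y ∉ orb P P' ∧ Adj x y) := by
  classical
  haveI : Fintype (Sylow 3 G) := Fintype.ofFinite _
  obtain ⟨s, hsN, hsB, hsQ, -⟩ := BB.exists_s h hadj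
  obtain ⟨μ, hμ0⟩ := hmu
  have hP'ne : P' ≠ P := fun e => adj_irrefl h P (by rw [e] at hadj; exact hadj)
  obtain ⟨P3, hP3⟩ : ∃ P3, P3 = s • P' := ⟨_, rfl⟩
  have hQfix : ∀ q ∈ Nrm P ⊓ Nrm P', q • P3 = P3 := by
    intro q hq
    rw [hP3]
    exact Q_fix_s hsQ hq
  have hadj3 : Adj P P3 := by
    rw [hP3]
    exact (adj_smul_of_mem_nrm hsN).2 hadj
  have hP3ne : P3 ≠ P := fun e => adj_irrefl h P (by rw [e] at hadj3; exact hadj3)
  have hP3not : P3 ∉ orb P P' := by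
    rintro ⟨u, hu, hux⟩
    apply hsB
    have h1 : (u⁻¹ * s) • P' = P' := by
      rw [mul_smul, ← hP3, ← hux, inv_smul_smul]
    have h2 : u⁻¹ * s ∈ Nrm P ⊓ Nrm P' :=
      ⟨Subgroup.mul_mem _ (Subgroup.inv_mem _ (mem_nrm_of_mem hu)) hsN, (smul_eq_iff _ _).1 h1⟩
    have h3 : s = u * (u⁻¹ * s) := by group
    rw [h3]
    exact Subgroup.mul_mem_sup hu h2
  have hP'not : P' ∉ orb P P3 := by
    intro hc
    apply hP3not
    rw [orb_eq_of_mem hc]
    exact self_mem_orb P P3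
  -- the two orbits
  set D1 : Finset (Sylow 3 G) := Finset.univ.filter (fun x => x ∈ orb P P') with hD1def
  set D2 : Finset (Sylow 3 G) := Finset.univ.filter (fun x => x ∈ orb P P3) with hD2def
  have mD1 : ∀ x, x ∈ D1 ↔ x ∈ orb P P' := fun x => by simp [hD1def]
  have mD2 : ∀ x, x ∈ D2 ↔ x ∈ orb P P3 := fun x => by simp [hD2def]
  have cD1 : D1.card = 9 := by
    rw [← orb_ncard h hP'ne, Set.ncard_eq_toFinset_card']
    congr 1
    ext x
    simp [hD1def]
  have cD2 : D2.card = 9 := by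
    rw [← orb_ncard h hP3ne, Set.ncard_eq_toFinset_card']
    congr 1
    ext x
    simp [hD2def]
  have hdisj : Disjoint D1 D2 := by
    rw [Finset.disjoint_left]
    intro x hx1 hx2
    rw [mD1] at hx1
    rw [mD2] at hx2
    apply hP3not
    rw [← orb_eq_of_mem hx1, orb_eq_of_mem hx2]
    exact self_mem_orb P P3
  -- degree
  have hdeg : ∀ x : Sylow 3 G, (Finset.univ.filter (fun y => Adj x y)).card = 18 := by
    intro x
    rw [← BB.card_adj h x, Nat.card_eq_fintype_card, Fintype.card_subtype]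
  -- the neighbours of `P`
  have hΔ : ∀ x, Adj P x ↔ x ∈ D1 ∨ x ∈ D2 := by
    have hsub : D1 ∪ D2 ⊆ Finset.univ.filter (fun y => Adj P y) := by
      intro x hx
      rw [Finset.mem_union, mD1, mD2] at hx
      rw [Finset.mem_filter]
      refine ⟨Finset.mem_univ _, ?_⟩
      rcases hx with hx | hx
      · exact adj_of_mem_orb hadj hx
      · exact adj_of_mem_orb hadj3 hx
    have hcard : (Finset.univ.filter (fun y => Adj P y)).card ≤ (D1 ∪ D2).card := by
      rw [Finset.card_union_of_disjoint hdisj, cD1, cD2, hdeg P]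
    have heq := Finset.eq_of_subset_of_card_le hsub hcard
    intro x
    rw [← Finset.mem_union, heq, Finset.mem_filter]
    simp
  have hΔ' : ∀ x, Adj P x → x ∈ orb P P' ∨ x ∈ orb P P3 := by
    intro x hx
    have := (hΔ x).1 hx
    rwa [mD1, mD2] at this
  -- the matching
  let m : Sylow 3 G → Sylow 3 G := fun x =>
    if hx : x ∈ orb P P' then (Classical.choose hx) • P3 else x
  have hm_spec : ∀ u ∈ (P : Subgroup G), m (u • P') = u • P3 := by
    intro u hu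
    have hx : u • P' ∈ orb P P' := smul_mem_orb hu
    have h1 : m (u • P') = (Classical.choose hx) • P3 := by
      simp only [m, dif_pos hx]
    have h2 := Classical.choose_spec hx
    have h3 : Classical.choose hx = u := inj_smul h hP'ne h2.1 hu h2.2
    rw [h1, h3]
  -- Adj P' P3
  have hP'3 : Adj P' P3 := by
    have hne : P' ≠ P3 := fun e => hP3not (e ▸ self_mem_orb P P')
    rcases BB.card_inf_nrm h hne with h8 | h4
    · exact h8
    · exfalso
      have hle : Nrm P ⊓ Nrm P' ≤ Nrm P' ⊓ Nrm P3 := by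
        intro q hq
        exact ⟨hq.2, (smul_eq_iff q P3).1 (hQfix q hq)⟩
      have := Subgroup.card_le_of_le hle
      rw [h4] at this
      have h8 : Nat.card ↥(Nrm P ⊓ Nrm P') = 8 := hadj
      omega
  -- the three families of pairs
  have e11 : ∀ v ∈ (P : Subgroup G), ∀ w ∈ (P : Subgroup G), v ≠ w → ∀ v' ∈ (P : Subgroup G),
      ∀ w' ∈ (P : Subgroup G), v' ≠ w' → (Adj (v • P') (w • P') ↔ Adj (v' • P') (w' • P')) := by
    intro v hv w hw hvw v' hv' w' hw' hvw'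
    rw [adj_orb_iff, adj_orb_iff]
    refine adj_const hQt (fun q hq => (mem_Q_smul hq).2)
      (Subgroup.mul_mem _ (Subgroup.inv_mem _ hv) hw) (fun e => hvw (inv_mul_eq_one.1 e))
      (Subgroup.mul_mem _ (Subgroup.inv_mem _ hv') hw') (fun e => hvw' (inv_mul_eq_one.1 e))
  have e12 : ∀ v ∈ (P : Subgroup G), ∀ w ∈ (P : Subgroup G), v ≠ w → ∀ v' ∈ (P : Subgroup G),
      ∀ w' ∈ (P : Subgroup G), v' ≠ w' → (Adj (v • P') (w • P3) ↔ Adj (v' • P') (w' • P3)) := by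
    intro v hv w hw hvw v' hv' w' hw' hvw'
    rw [adj_orb_iff, adj_orb_iff]
    refine adj_const hQt hQfix
      (Subgroup.mul_mem _ (Subgroup.inv_mem _ hv) hw) (fun e => hvw (inv_mul_eq_one.1 e))
      (Subgroup.mul_mem _ (Subgroup.inv_mem _ hv') hw') (fun e => hvw' (inv_mul_eq_one.1 e))
  have e22 : ∀ v ∈ (P : Subgroup G), ∀ w ∈ (P : Subgroup G), v ≠ w → ∀ v' ∈ (P : Subgroup G),
      ∀ w' ∈ (P : Subgroup G), v' ≠ w' → (Adj (v • P') (w • P') ↔ Adj (v' • P3) (w' • P3)) := by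
    intro v hv w hw hvw v' hv' w' hw' hvw'
    -- transport the pair in `D2` by `s⁻¹`
    have h1 : Adj (s⁻¹ • (v' • P3)) (s⁻¹ • (w' • P3)) ↔ Adj (v' • P3) (w' • P3) := adj_smul s⁻¹
    have hs' : s⁻¹ ∈ Nrm P := Subgroup.inv_mem _ hsN
    have h2 : ∀ u : G, s⁻¹ • (u • P3) = (s⁻¹ * u * s) • P' := by
      intro u
      rw [hP3, ← mul_smul, ← mul_smul]
    rw [h2, h2] at h1
    rw [← h1]
    have hc : ∀ {u : G}, u ∈ (P : Subgroup G) → s⁻¹ * u * s ∈ (P : Subgroup G) := fun hu =>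
      conj_mem_of_mem_nrm' hsN hu
    refine e11 v hv w hw hvw _ (hc hv') _ (hc hw') ?_
    intro e
    apply hvw'
    have : s * (s⁻¹ * v' * s) * s⁻¹ = s * (s⁻¹ * w' * s) * s⁻¹ := by rw [e]
    simpa [mul_assoc] using this
  -- apply the combinatorial core
  have hcore := BB.abs_graph (Ω := Sylow 3 G) Adj (fun x y hxy => adj_comm.1 hxy) (adj_irrefl h)
    (by rw [← Nat.card_eq_fintype_card]; exact card_sylow3 h) hdeg μ
    (by
      intro x y hxy hna
      rw [← hμ0 x y hxy hna, Nat.card_eq_fintype_card, Fintype.card_subtype])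
    P D1 D2 cD1 cD2 hdisj hΔ m
    (by
      intro x hx
      rw [mD1] at hx
      obtain ⟨u, hu, rfl⟩ := hx
      rw [hm_spec u hu, mD2]
      exact smul_mem_orb hu)
    (by
      intro x hx y hy hxy
      rw [mD1] at hx hy
      obtain ⟨u, hu, rfl⟩ := hx
      obtain ⟨v, hv, rfl⟩ := hy
      rw [hm_spec u hu, hm_spec v hv] at hxy
      rw [inj_smul h hP3ne hu hv hxy])
    (by
      intro x hx
      rw [mD1] at hx
      obtain ⟨u, hu, rfl⟩ := hx
      rw [hm_spec u hu]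
      have : Adj (u • P') (u • P3) ↔ Adj P' P3 := adj_smul u
      exact this.2 hP'3)
    (by
      intro x hx y hy x' hx' y' hy' hxy hxy'
      rw [mD1] at hx hy hx' hy'
      obtain ⟨v, hv, rfl⟩ := hx
      obtain ⟨w, hw, rfl⟩ := hy
      obtain ⟨v', hv', rfl⟩ := hx'
      obtain ⟨w', hw', rfl⟩ := hy'
      exact e11 v hv w hw (fun e => hxy (by rw [e])) v' hv' w' hw' (fun e => hxy' (by rw [e])))
    (by
      intro x hx y hy x' hx' y' hy' hxy hxy'
      rw [mD1] at hx hy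
      rw [mD2] at hx' hy'
      obtain ⟨v, hv, rfl⟩ := hx
      obtain ⟨w, hw, rfl⟩ := hy
      obtain ⟨v', hv', rfl⟩ := hx'
      obtain ⟨w', hw', rfl⟩ := hy'
      exact e22 v hv w hw (fun e => hxy (by rw [e])) v' hv' w' hw' (fun e => hxy' (by rw [e])))
    (by
      intro x hx y hy x' hx' y' hy' hxy hxy'
      rw [mD1] at hx hx'
      rw [mD2] at hy hy'
      obtain ⟨v, hv, rfl⟩ := hx
      obtain ⟨w, hw, rfl⟩ := hy
      obtain ⟨v', hv', rfl⟩ := hx'
      obtain ⟨w', hw', rfl⟩ := hy'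
      rw [hm_spec v hv] at hxy
      rw [hm_spec v' hv'] at hxy'
      exact e12 v hv w hw (fun e => hxy (by rw [e])) v' hv' w' hw' (fun e => hxy' (by rw [e])))
    (by
      intro w w' hw hwa hw' hwa'
      obtain ⟨n, hn, hnw⟩ := BB.nonadj_trans h hw hwa hw' hwa'
      have hn' : n⁻¹ ∈ Nrm P := Subgroup.inv_mem _ hn
      -- counting lemma: transport along `n⁻¹`
      have cnt : ∀ (A A' : Finset (Sylow 3 G)), (∀ x, n⁻¹ • x ∈ A ↔ x ∈ A') →
          (A'.filter (fun x => Adj w' x)).card = (A.filter (fun x => Adj w x)).card := by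
        intro A A' hAA'
        refine Finset.card_bij (fun x _ => n⁻¹ • x) ?_ ?_ ?_
        · intro x hx
          rw [Finset.mem_filter] at hx ⊢
          refine ⟨(hAA' x).2 hx.1, ?_⟩
          have : Adj (n⁻¹ • w') (n⁻¹ • x) ↔ Adj w' x := adj_smul n⁻¹
          rw [← hnw, inv_smul_smul] at this
          exact this.2 (by rw [hnw]; exact hx.2)
        · intro x _ y _ hxy
          exact smul_left_cancel _ hxy
        · intro y hy
          rw [Finset.mem_filter] at hy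
          refine ⟨n • y, ?_, inv_smul_smul n y⟩
          rw [Finset.mem_filter]
          refine ⟨(hAA' (n • y)).1 (by rw [inv_smul_smul]; exact hy.1), ?_⟩
          rw [← hnw]
          exact (adj_smul n).2 hy.2
      rcases nrm_orb_cases hΔ' hadj hadj3 hP3not hn' with ⟨c1, c2⟩ | ⟨c1, c2⟩
      · left
        refine ⟨(cnt D1 D1 ?_).symm, (cnt D2 D2 ?_).symm⟩
        · intro x; rw [mD1, mD1]; exact c1 x
        · intro x; rw [mD2, mD2]; exact c2 x
      · right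
        refine ⟨(cnt D1 D2 ?_).symm, (cnt D2 D1 ?_).symm⟩
        · intro x; rw [mD1, mD2]; exact c2 x
        · intro x; rw [mD2, mD1]; exact c1 x)
  obtain ⟨C1, C2⟩ := hcore
  refine ⟨?_, ?_, ?_⟩
  · intro u hu hu1
    have h1 : P' ∈ D1 := (mD1 _).2 (self_mem_orb P P')
    have h2 : u • P' ∈ D1 := (mD1 _).2 (smul_mem_orb hu)
    exact C1 P' h1 (u • P') h2 (fun e => BB.semireg h hP'ne hu hu1 e.symm)
  · intro y hy hyn
    have hy2 : y ∈ orb P P3 := by
      rcases hΔ' y hy with h1 | h1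
      · exact absurd h1 hyn
      · exact h1
    obtain ⟨w, hw, rfl⟩ := hy2
    refine ⟨w • P', ⟨smul_mem_orb hw, ?_⟩, ?_⟩
    · exact adj_comm.1 ((adj_smul w).2 hP'3)
    · rintro x ⟨hx, hxa⟩
      obtain ⟨v, hv, rfl⟩ := hx
      by_contra hne
      have hvw : w • P3 ≠ m (v • P') := by
        rw [hm_spec v hv]
        intro e
        apply hne
        rw [inj_smul h hP3ne hw hv e]
      exact C2 (v • P') ((mD1 _).2 (smul_mem_orb hv)) (w • P3) ((mD2 _).2 (smul_mem_orb hw)) hvw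
        (adj_comm.1 hxa)
  · intro x hx
    obtain ⟨v, hv, rfl⟩ := hx
    refine ⟨v • P3, ⟨adj_of_mem_orb hadj3 (smul_mem_orb hv), ?_, (adj_smul v).2 hP'3⟩, ?_⟩
    · intro hc
      apply hP3not
      rw [← orb_eq_of_mem hc]
      exact ⟨v⁻¹, Subgroup.inv_mem _ hv, inv_smul_smul v P3⟩
    · rintro y ⟨hya, hyn, hxy⟩
      have hy2 : y ∈ orb P P3 := by
        rcases hΔ' y hya with h1 | h1
        · exact absurd h1 hyn
        · exact h1
      by_contra hne
      have hne' : y ≠ m (v • P') := by rw [hm_spec v hv]; exact hne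
      exact C2 (v • P') ((mD1 _).2 (smul_mem_orb hv)) y ((mD2 _).2 hy2) hne' hxy

end Cfsg.Agent.Lib.H1.M11U
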