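import Mathlib
import Cfsg.Agent.Lib.H1.M11U.LP

/-!
# S0420 piece ACT (twin, helper1): the sharply 4-transitive action on the 11 conjugates of the clique
-/

set_option autoImplicit false
open scoped Pointwise

universe u

namespace Cfsg.Agent.Lib.H1.M11U

variable {G : Type u} [Group G] [Finite G]

/-- a "good" set: a 10-clique stabilised by each of its members -/
def Good (C : Set (Sylow 3 G)) : Prop :=
  C.ncard = 10 ∧ (∀ x ∈ C, ∀ y ∈ C, x ≠ y → Adj x y) ∧
    ∀ x ∈ C, ∀ u ∈ (x : Subgroup G), ∀ y ∈ C, u • y ∈ C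

theorem mem_smul_sylow {g u : G} {x : Sylow 3 G} :
    u ∈ ((g • x : Sylow 3 G) : Subgroup G) ↔ g⁻¹ * u * g ∈ (x : Subgroup G) := by
  rw [Sylow.coe_subgroup_smul, Subgroup.mem_pointwise_smul_iff_inv_smul_mem]
  simp [MulAut.smul_def]

theorem Good.smul {C : Set (Sylow 3 G)} (hC : Good C) (g : G) : Good (g • C) := by
  obtain ⟨h1, h2, h3⟩ := hC
  refine ⟨?_, ?_, ?_⟩
  · rw [← h1]
    exact Set.ncard_image_of_injective _ (MulAction.injective g)
  · rintro _ ⟨x, hx, rfl⟩ _ ⟨y, hy, rfl⟩ hxy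
    exact (adj_smul g).2 (h2 x hx y hy (fun e => hxy (by rw [e])))
  · rintro _ ⟨x, hx, rfl⟩ u hu _ ⟨y, hy, rfl⟩
    have hu' : g⁻¹ * u * g ∈ (x : Subgroup G) := mem_smul_sylow.1 hu
    refine ⟨(g⁻¹ * u * g) • y, h3 x hx _ hu' y hy, ?_⟩
    show g • ((g⁻¹ * u * g) • y) = u • (g • y)
    rw [← mul_smul, ← mul_smul]
    congr 1
    group

/-- a good set is `{x}` together with the `x`-orbit of any other of its points -/
theorem Good.eq_insert_orb (h : Hyp G) {C : Set (Sylow 3 G)} (hC : Good C) {x y : Sylow 3 G}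
    (hx : x ∈ C) (hy : y ∈ C) (hxy : y ≠ x) : C = insert x (orb x y) := by
  obtain ⟨h1, h2, h3⟩ := hC
  have hsub : insert x (orb x y) ⊆ C := by
    intro z hz
    rcases hz with rfl | ⟨u, hu, rfl⟩
    · exact hx
    · exact h3 x hx u hu y hy
  have hfin : C.Finite := Set.toFinite C
  have hx' : x ∉ orb x y := fun hc => (ne_of_mem_orb hxy hc) rfl
  have hcard : (insert x (orb x y)).ncard = 10 := by
    rw [Set.ncard_insert_of_notMem hx' (Set.toFinite _), orb_ncard h hxy]
  exact (Set.eq_of_subset_of_ncard_le hsub (by rw [h1, hcard]) hfin).symm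

/-- two good sets sharing two points coincide -/
theorem Good.eq_of_two (h : Hyp G) {C C' : Set (Sylow 3 G)} (hC : Good C) (hC' : Good C')
    {x y : Sylow 3 G} (hx : x ∈ C) (hy : y ∈ C) (hx' : x ∈ C') (hy' : y ∈ C') (hxy : y ≠ x) :
    C = C' := by
  rw [hC.eq_insert_orb h hx hy hxy, hC'.eq_insert_orb h hx' hy' hxy]


theorem ncard_adj (h : Hyp G) (x : Sylow 3 G) : {y : Sylow 3 G | Adj x y}.ncard = 18 := by
  rw [← BB.card_adj h x, ← Nat.card_coe_set_eq]
  rfl

theorem Good.diff_subset_adj {C : Set (Sylow 3 G)} (hC : Good C) {x : Sylow 3 G} (hx : x ∈ C) :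
    C \ {x} ⊆ {y : Sylow 3 G | Adj x y} := by
  rintro y ⟨hy, hyx⟩
  exact hC.2.1 x hx y hy (fun e => hyx (by rw [e]; rfl))

theorem Good.ncard_diff {C : Set (Sylow 3 G)} (hC : Good C) {x : Sylow 3 G} (hx : x ∈ C) :
    (C \ {x}).ncard = 9 := by
  rw [Set.ncard_sdiff_singleton_of_mem hx, hC.1]

/-- at most two good sets through a point -/
theorem Good.three_false (h : Hyp G) {C1 C2 C3 : Set (Sylow 3 G)} (h1 : Good C1) (h2 : Good C2)
    (h3 : Good C3) {x : Sylow 3 G} (hx1 : x ∈ C1) (hx2 : x ∈ C2) (hx3 : x ∈ C3) (h12 : C1 ≠ C2)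
    (h13 : C1 ≠ C3) (h23 : C2 ≠ C3) : False := by
  have disj : ∀ {A B : Set (Sylow 3 G)}, Good A → Good B → x ∈ A → x ∈ B → A ≠ B →
      Disjoint (A \ {x}) (B \ {x}) := by
    intro A B hA hB hxA hxB hAB
    rw [Set.disjoint_left]
    rintro y ⟨hyA, hyx⟩ ⟨hyB, -⟩
    exact hAB (Good.eq_of_two h hA hB hxA hyA hxB hyB (fun e => hyx (by rw [e]; rfl)))
  have hfin : ∀ A : Set (Sylow 3 G), A.Finite := fun A => Set.toFinite A
  have hd12 := disj h1 h2 hx1 hx2 h12
  have hd13 := disj h1 h3 hx1 hx3 h13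
  have hd23 := disj h2 h3 hx2 hx3 h23
  have hU : ((C1 \ {x}) ∪ (C2 \ {x}) ∪ (C3 \ {x})).ncard = 27 := by
    rw [Set.ncard_union_eq (Set.disjoint_union_left.2 ⟨hd13, hd23⟩) (hfin _) (hfin _),
      Set.ncard_union_eq hd12 (hfin _) (hfin _), h1.ncard_diff hx1, h2.ncard_diff hx2,
      h3.ncard_diff hx3]
  have hsub : (C1 \ {x}) ∪ (C2 \ {x}) ∪ (C3 \ {x}) ⊆ {y : Sylow 3 G | Adj x y} :=
    Set.union_subset (Set.union_subset (h1.diff_subset_adj hx1) (h2.diff_subset_adj hx2))
      (h3.diff_subset_adj hx3)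
  have := Set.ncard_le_ncard hsub (hfin _)
  rw [hU, ncard_adj h x] at this
  omega

/-- a second good set through each point of a good set -/
theorem Good.exists_other (h : Hyp G) {C : Set (Sylow 3 G)} (hC : Good C) {x : Sylow 3 G}
    (hx : x ∈ C) : ∃ n ∈ Nrm x, n • C ≠ C := by
  have hfin : ∀ A : Set (Sylow 3 G), A.Finite := fun A => Set.toFinite A
  -- a second point of `C`
  obtain ⟨y, hyC, hyx⟩ : ∃ y ∈ C, y ≠ x := by
    have h9 := hC.ncard_diff hx
    have hne : (C \ {x}).Nonempty := by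
      rw [← Set.ncard_pos (hfin _), h9]; norm_num
    obtain ⟨y, hy, hyx⟩ := hne
    exact ⟨y, hy, hyx⟩
  -- a neighbour of `x` outside `C`
  obtain ⟨y', hy'a, hy'C⟩ : ∃ y', Adj x y' ∧ y' ∉ C := by
    by_contra hcon
    have hcon' : ∀ z, Adj x z → z ∈ C := by
      intro z hz
      by_contra hzC
      exact hcon ⟨z, hz, hzC⟩
    have hsub : {y : Sylow 3 G | Adj x y} ⊆ C \ {x} := by
      intro z hz
      refine ⟨hcon' z hz, ?_⟩
      intro hzx
      rw [Set.mem_singleton_iff] at hzx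
      rw [hzx] at hz
      exact adj_irrefl h x hz
    have := Set.ncard_le_ncard hsub (hfin _)
    rw [ncard_adj h x, hC.ncard_diff hx] at this
    omega
  have hxy : Adj x y := hC.2.1 x hx y hyC (fun e => hyx e.symm)
  obtain ⟨n, hn, hny⟩ := Cfsg.Agent.Lib.H9.M11U.adj_trans h hxy hy'a
  refine ⟨n, hn, ?_⟩
  intro he
  apply hy'C
  rw [← he, ← hny]
  exact Set.smul_mem_smul_set hyC


theorem good_of_mem_orbit {C C1 : Set (Sylow 3 G)} (hC : Good C) (h1 : C1 ∈ MulAction.orbit G C) :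
    Good C1 := by
  obtain ⟨g, rfl⟩ := h1
  exact hC.smul g

theorem ncard_orbit (h : Hyp G) {C : Set (Sylow 3 G)}
    (hH : Nat.card (MulAction.stabilizer G C) = 720) : (MulAction.orbit G C).ncard = 11 := by
  rw [← MulAction.index_stabilizer]
  have h2 := Subgroup.card_mul_index (MulAction.stabilizer G C)
  rw [hH, h.card] at h2
  omega

/-- two distinct conjugates of a good set meet -/
theorem exists_common (h : Hyp G) {C : Set (Sylow 3 G)} (hC : Good C)
    (hH : Nat.card (MulAction.stabilizer G C) = 720) {C1 C2 : Set (Sylow 3 G)}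
    (h1 : C1 ∈ MulAction.orbit G C) (h2 : C2 ∈ MulAction.orbit G C) (h12 : C2 ≠ C1) :
    ∃ x, x ∈ C1 ∧ x ∈ C2 := by
  classical
  have hG1 : Good C1 := good_of_mem_orbit hC h1
  -- the map `x ↦ the other conjugate through x`
  have hex : ∀ x : C1, ∃ n : G, n ∈ Nrm (x : Sylow 3 G) ∧ n • C1 ≠ C1 := fun x => by
    obtain ⟨n, hn, hne⟩ := hG1.exists_other h x.2
    exact ⟨n, hn, hne⟩
  let T : Set (Set (Sylow 3 G)) := MulAction.orbit G C \ {C1}
  have hmemT : ∀ x : C1, (Classical.choose (hex x)) • C1 ∈ T := by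
    intro x
    refine ⟨?_, ?_⟩
    · obtain ⟨g, rfl⟩ := h1
      exact ⟨Classical.choose (hex x) * g, mul_smul _ _ _⟩
    · exact (Classical.choose_spec (hex x)).2
  have hxmem : ∀ x : C1, (x : Sylow 3 G) ∈ (Classical.choose (hex x)) • C1 := by
    intro x
    have hn := (Classical.choose_spec (hex x)).1
    have hfix : (Classical.choose (hex x)) • (x : Sylow 3 G) = x := (smul_eq_iff _ _).2 hn
    have key : (Classical.choose (hex x)) • (x : Sylow 3 G) ∈ (Classical.choose (hex x)) • C1 :=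
      Set.smul_mem_smul_set x.2
    rw [hfix] at key
    exact key
  let φ : C1 → T := fun x => ⟨(Classical.choose (hex x)) • C1, hmemT x⟩
  have hinj : Function.Injective φ := by
    intro x y hxy
    have hset : (Classical.choose (hex x)) • C1 = (Classical.choose (hex y)) • C1 :=
      congrArg Subtype.val hxy
    by_contra hne
    have hne' : (y : Sylow 3 G) ≠ x := fun e => hne (Subtype.ext e.symm)
    have hG2 : Good ((Classical.choose (hex x)) • C1) := hG1.smul _
    have := Good.eq_of_two h hG1 hG2 x.2 y.2 (hxmem x) (by rw [hset]; exact hxmem y) hne'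
    exact (Classical.choose_spec (hex x)).2 this.symm
  have hcardT : Nat.card T = 10 := by
    rw [Nat.card_coe_set_eq, Set.ncard_sdiff_singleton_of_mem h1, ncard_orbit h hH]
  have hcardC : Nat.card C1 = 10 := by
    rw [Nat.card_coe_set_eq, hG1.1]
  have hbij := hinj.bijective_of_nat_card_le (by rw [hcardT, hcardC])
  obtain ⟨x, hx⟩ := hbij.2 ⟨C2, h2, h12⟩
  refine ⟨x, x.2, ?_⟩
  have : (Classical.choose (hex x)) • C1 = C2 := congrArg Subtype.val hx
  rw [← this]
  exact hxmem x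


/-- an element fixing four distinct conjugates of a good set is trivial -/
theorem eq_one_of_fix_four (h : Hyp G) {C : Set (Sylow 3 G)} (hC : Good C)
    (hH : Nat.card (MulAction.stabilizer G C) = 720)
    (hfix3 : ∀ {x y : Sylow 3 G}, Adj x y → ∀ {u : G}, u ∈ (x : Subgroup G) → u ≠ 1 → ∀ {g : G},
      g • x = x → g • y = y → g • (u • y) = u • y → g = 1)
    {C1 C2 C3 C4 : Set (Sylow 3 G)} (h1 : C1 ∈ MulAction.orbit G C) (h2 : C2 ∈ MulAction.orbit G C)
    (h3 : C3 ∈ MulAction.orbit G C) (h4 : C4 ∈ MulAction.orbit G C) (h12 : C1 ≠ C2) (h13 : C1 ≠ C3)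
    (h14 : C1 ≠ C4) (h23 : C2 ≠ C3) (h24 : C2 ≠ C4) (h34 : C3 ≠ C4) {g : G} (hg1 : g • C1 = C1)
    (hg2 : g • C2 = C2) (hg3 : g • C3 = C3) (hg4 : g • C4 = C4) : g = 1 := by
  have G1 := good_of_mem_orbit hC h1
  have G2 := good_of_mem_orbit hC h2
  have G3 := good_of_mem_orbit hC h3
  have G4 := good_of_mem_orbit hC h4
  obtain ⟨x2, hx21, hx22⟩ := exists_common h hC hH h1 h2 h12.symm
  obtain ⟨x3, hx31, hx33⟩ := exists_common h hC hH h1 h3 h13.symm
  obtain ⟨x4, hx41, hx44⟩ := exists_common h hC hH h1 h4 h14.symm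
  -- `g` fixes the common point of `C1` and `Cj`
  have fixpt : ∀ {Cj : Set (Sylow 3 G)}, Good Cj → C1 ≠ Cj → g • Cj = Cj → ∀ {x : Sylow 3 G},
      x ∈ C1 → x ∈ Cj → g • x = x := by
    intro Cj Gj hne hgj x hx1 hxj
    by_contra hgx
    have m1 : g • x ∈ C1 := by rw [← hg1]; exact Set.smul_mem_smul_set hx1
    have mj : g • x ∈ Cj := by rw [← hgj]; exact Set.smul_mem_smul_set hxj
    exact hne (Good.eq_of_two h G1 Gj hx1 m1 hxj mj hgx)
  have f2 := fixpt G2 h12 hg2 hx21 hx22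
  have f3 := fixpt G3 h13 hg3 hx31 hx33
  have f4 := fixpt G4 h14 hg4 hx41 hx44
  have n23 : x3 ≠ x2 := fun e =>
    Good.three_false h G1 G2 G3 hx21 hx22 (e ▸ hx33) h12 h13 h23
  have n24 : x4 ≠ x2 := fun e =>
    Good.three_false h G1 G2 G4 hx21 hx22 (e ▸ hx44) h12 h14 h24
  have n34 : x4 ≠ x3 := fun e =>
    Good.three_false h G1 G3 G4 hx31 hx33 (e ▸ hx44) h13 h14 h34
  have hC1 := G1.eq_insert_orb h hx21 hx31 n23
  have hx4' : x4 ∈ insert x2 (orb x2 x3) := hC1 ▸ hx41
  rcases hx4' with e | ⟨u, hu, hux⟩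
  · exact absurd e n24
  · have hu1 : u ≠ 1 := by
      rintro rfl
      rw [one_smul] at hux
      exact n34 hux.symm
    have hadj : Adj x2 x3 := G1.2.1 x2 hx21 x3 hx31 (fun e => n23 e.symm)
    exact hfix3 hadj hu hu1 f2 f3 (by rw [hux]; exact f4)

/-- (ACT core) -/
theorem act_core (h : Hyp G) {C : Set (Sylow 3 G)} (hC : Good C)
    (hH : Nat.card (MulAction.stabilizer G C) = 720)
    (hfix3 : ∀ {x y : Sylow 3 G}, Adj x y → ∀ {u : G}, u ∈ (x : Subgroup G) → u ≠ 1 → ∀ {g : G},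
      g • x = x → g • y = y → g • (u • y) = u • y → g = 1) :
    ∃ (α : Type u) (_ : Fintype α) (_ : DecidableEq α) (_ : MulAction G α), Fintype.card α = 11 ∧
      MulAction.IsMultiplyPretransitive G α 4 ∧ ∀ x : Fin 4 ↪ α, MulAction.stabilizer G x = ⊥ := by
  classical
  haveI : Fintype (MulAction.orbit G C) := Fintype.ofFinite _
  have hcard : Fintype.card (MulAction.orbit G C) = 11 := by
    rw [← Nat.card_eq_fintype_card, Nat.card_coe_set_eq, ncard_orbit h hH]
  have hstab : ∀ e : Fin 4 ↪ MulAction.orbit G C, MulAction.stabilizer G e = ⊥ := by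
    intro e
    rw [eq_bot_iff]
    intro g hg
    rw [Subgroup.mem_bot]
    have hge : g • e = e := MulAction.mem_stabilizer_iff.1 hg
    have hgi : ∀ i, g • ((e i : MulAction.orbit G C) : Set (Sylow 3 G)) = e i := by
      intro i
      have : (g • e) i = e i := by rw [hge]
      have h2 : ((g • e) i : MulAction.orbit G C) = g • (e i) := rfl
      rw [h2] at this
      exact congrArg Subtype.val this
    have hne : ∀ i j, i ≠ j → ((e i : MulAction.orbit G C) : Set (Sylow 3 G)) ≠ e j := by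
      intro i j hij he
      exact hij (e.injective (Subtype.ext he))
    exact eq_one_of_fix_four h hC hH hfix3 (e 0).2 (e 1).2 (e 2).2 (e 3).2
      (hne 0 1 (by decide)) (hne 0 2 (by decide)) (hne 0 3 (by decide)) (hne 1 2 (by decide))
      (hne 1 3 (by decide)) (hne 2 3 (by decide)) (hgi 0) (hgi 1) (hgi 2) (hgi 3)
  refine ⟨MulAction.orbit G C, inferInstance, inferInstance, inferInstance, hcard, ?_, hstab⟩
  -- 4-transitivity by counting
  rw [MulAction.isMultiplyPretransitive_iff]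
  intro x y
  have hE : Nat.card (Fin 4 ↪ MulAction.orbit G C) = 7920 := by
    rw [Nat.card_eq_fintype_card, Fintype.card_embedding_eq, hcard, Fintype.card_fin]
    decide
  have horb : (MulAction.orbit G x).ncard = 7920 := by
    have := MulAction.index_stabilizer G x
    rw [hstab x, Subgroup.index_bot, h.card] at this
    exact this.symm
  have huniv : MulAction.orbit G x = Set.univ := by
    rw [Set.eq_univ_iff_ncard, horb, hE]
  have hy : y ∈ MulAction.orbit G x := by rw [huniv]; exact Set.mem_univ y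
  obtain ⟨g, hg⟩ := hy
  exact ⟨g, hg⟩

end Cfsg.Agent.Lib.H1.M11U
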