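import Cfsg.Agent.S0420
import Cfsg.Agent.Lib.H25.CG11M

/-!
# Every `IsM11` group is isomorphic to `Spor.M11` (helper1)

Light corollary of the landed `Cfsg.Agent.S0420.result` applied twice (to `G` and to `Spor.M11`
itself, which is `IsM11` by helper25's `H25.CG11.isM11_M11`), with the dodecad `ptsMask dod0` and its
point `gPt 0` (helper28).
-/

set_option autoImplicit false

universe u

namespace Cfsg.Agent.Lib.H1.M11U

/-- any `IsM11` group (simple of order 7920) is isomorphic to the Prelude's `Spor.M11` -/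
theorem mulEquiv_M11_of_isM11 {G : Type u} [Group G] [Finite G] (hG : Cfsg.IsM11 G) :
    Nonempty (G ≃* ↥Cfsg.Spor.M11) := by
  obtain ⟨e1⟩ := Cfsg.Agent.S0420.result hG _ Cfsg.Agent.Lib.H28.ptsMask_dod0_mem _
    Cfsg.Agent.Lib.H28.gPt0_mem_dod0
  have : Finite ↥Cfsg.Spor.M11 := Subtype.finite
  obtain ⟨e2⟩ := Cfsg.Agent.S0420.result Cfsg.Agent.Lib.H25.CG11.isM11_M11 _
    Cfsg.Agent.Lib.H28.ptsMask_dod0_mem _ Cfsg.Agent.Lib.H28.gPt0_mem_dod0
  exact ⟨e1.trans e2.symm⟩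

/-- the same, as the Prelude predicate `Spor.IsoM11` -/
theorem isoM11_of_isM11 {G : Type u} [Group G] [Finite G] (hG : Cfsg.IsM11 G) :
    Cfsg.Spor.IsoM11 G :=
  mulEquiv_M11_of_isM11 hG

/-- a simple group of order 7920 is isomorphic to `Spor.M11` -/
theorem mulEquiv_M11_of_simple_card {G : Type u} [Group G] [Finite G] [IsSimpleGroup G]
    (hc : Nat.card G = 7920) : Nonempty (G ≃* ↥Cfsg.Spor.M11) :=
  mulEquiv_M11_of_isM11 ⟨inferInstance, hc⟩

end Cfsg.Agent.Lib.H1.M11U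

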