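import Mathlib
import Cfsg.Agent.Lib.H1.M11U.LP
import Cfsg.Agent.Lib.H1.M11U.ACT
import Cfsg.Agent.Lib.H20.M11QREG
import Cfsg.Agent.Lib.H25.M11MUsig
import Cfsg.Agent.Lib.H19.M11CLOSElp
import Cfsg.Agent.Lib.H5.M11ACT1
import Cfsg.Agent.Lib.H18.M11ACT2

/-!
# S0420: assembly of the permutation-group part (helper1)

`local_prop`, `exists_clique`, `act` in the exact shapes of `tools/blueprints/S0420_sigs.lean`, from the
landed pieces (QREG helper20/helper26/helper18, MU helper25, CLOSE helper19, ACT1 helper5, ACT2 helper18).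
-/

set_option autoImplicit false
open scoped Pointwise

universe u

namespace Cfsg.Agent.Lib.H1.M11U

variable {G : Type u} [Group G] [Finite G]

/-- (LP) -/
theorem local_prop (h : Hyp G) {P P' : Sylow 3 G} (hadj : Adj P P') :
    (∀ u ∈ (P : Subgroup G), u ≠ 1 → Adj P' (u • P')) ∧
    (∀ y, Adj P y → y ∉ orb P P' → ∃! x, x ∈ orb P P' ∧ Adj y x) ∧
    (∀ x ∈ orb P P', ∃! y, Adj P y ∧ y ∉ orb P P' ∧ Adj x y) :=
  local_prop_core h hadj
    (fun hu hu1 hu' hu'1 => Cfsg.Agent.Lib.H20.M11U.Q_trans h hadj hu hu1 hu' hu'1)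
    (Cfsg.Agent.Lib.H25.M11U.mu_const h)

/-- (CLOSE) -/
theorem exists_clique (h : Hyp G) :
    ∃ C : Set (Sylow 3 G), C.ncard = 10 ∧ (∀ x ∈ C, ∀ y ∈ C, x ≠ y → Adj x y) ∧
      ∀ x ∈ C, ∀ u ∈ (x : Subgroup G), ∀ y ∈ C, u • y ∈ C :=
  Cfsg.Agent.Lib.H19.M11U.exists_clique_of_local_prop h (fun hadj => local_prop h hadj)

/-- (ACT) -/
theorem act (h : Hyp G) :
    ∃ (α : Type u) (_ : Fintype α) (_ : DecidableEq α) (_ : MulAction G α), Fintype.card α = 11 ∧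
      MulAction.IsMultiplyPretransitive G α 4 ∧ ∀ x : Fin 4 ↪ α, MulAction.stabilizer G x = ⊥ := by
  obtain ⟨C, hC, hcl, hst⟩ := exists_clique h
  exact act_core h ⟨hC, hcl, hst⟩ (Cfsg.Agent.Lib.H5.M11U.card_stabilizer_clique h hC hcl hst)
    (fun hadj _ hu hu1 _ hgx hgy hguy =>
      Cfsg.Agent.Lib.H18.M11U.eq_one_of_fix_three h hadj hu hu1 hgx hgy hguy)

end Cfsg.Agent.Lib.H1.M11U
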